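import Groth.Agent.S0022
import Groth.Agent.S0844
import Groth.Agent.S1614
import Groth.Agent.Sga67.SerreVB
import Groth.Agent.Sga67.CohBasic
import Groth.Agent.PerfA.CohSerre
import Groth.Agent.VarietyA.AmpleField
import Groth.Agent.VarietyA.EulerLES
import Groth.Agent.CohqA.HBiprod

/-!
# Serre's theorems on `P^n_R`, collected for the GAGA block

`P = CohB1.ProjSpace n R`, `O(d) = Twist.twistProjSpace n R d`, `M(d) = CohB1.tensorMod M (O(d))`
(which is `(tw n R d).obj M` by `rfl`, `tw n R d` an exact additive functor), cohomology `Coh.HH P _ q`,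
`sumO n R N d = ⨁_{Fin N} O(d)`, `it (O(1)) M m = M ⊗ O(1) ⊗ ... ⊗ O(1)` (`m` factors `O(1)`).

* any ring `R`: `isAmple_O1`, `isInvertible_O`, `isCoh_O`, `isFinLocFree_sumO`, `isCoh_sumO`, `O_mul`, `O_zero`, `O_nat`, `O_restrict`,
  `tw_tw`, `tw_zero`, `it_iso`, `shortExact_tw`, `vanish_gt`, `subsingleton_sumO`, `HH_congr`,
  `subsingleton_right`, `exists_globGen`, `exists_epi_free`, `exists_epi_sumO`.
* `R` Noetherian: `isNoetherian_projSpace`, `exists_ses`, `exists_presentation`, `serre`, `serre_globGen`,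
  `it_serre` (finiteness of cohomology is `Groth.Agent.S0038.result`).
-/

set_option autoImplicit false

universe u

open CategoryTheory CategoryTheory.Limits AlgebraicGeometry Opposite TopologicalSpace

namespace Groth.Agent.Gaga.H883.Serre

attribute [local instance] Abelian.hasFiniteBiproducts

open Groth.Agent.Sga67.SerreVB (tw sumO)
open Groth.Agent.CohqB.SerTw (it)

section AnyRing

variable (n : ℕ) (R : Type u) [CommRing R]

/-- `O(1)` is ample. -/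
theorem isAmple_O1 : CohB1.IsAmple (Twist.twistProjSpace n R 1) :=
  VarietyA.AmpleField.isAmple_twistProjSpace n R

theorem isInvertible_O (d : ℤ) : PicF.IsInvertible (Twist.twistProjSpace n R d) :=
  Sga67.SerreVB.isInvertible_twist n R d

theorem isCoh_of_isInvertible {X : Scheme.{u}} {L : X.Modules} (hL : PicF.IsInvertible L) :
    Coh.IsCoh L := by
  refine PerfA.CohSerre.isCoh_of_isFinLocFree fun x => ?_
  obtain ⟨U, hU, ⟨e⟩⟩ := hL x
  refine ⟨U, 1, hU, ⟨e ≪≫ ?_⟩⟩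
  exact (Limits.coproductUniqueIso (fun _ : Fin 1 => Coh.structureModule (↑U : Scheme.{u}))).symm

theorem isCoh_O (d : ℤ) : Coh.IsCoh (Twist.twistProjSpace n R d) :=
  isCoh_of_isInvertible (isInvertible_O n R d)

/-- `O(d) ⊗ O(e) ≅ O(d + e)`. -/
theorem O_mul (d e : ℤ) :
    Nonempty (CohB1.tensorMod (Twist.twistProjSpace n R d) (Twist.twistProjSpace n R e) ≅
      Twist.twistProjSpace n R (d + e)) :=
  Sga67.SerreVB.nonempty_twist_mul n R d e

/-- `O(0) ≅ O`. -/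
theorem O_zero : Nonempty (Twist.twistProjSpace n R 0 ≅ Coh.structureModule (CohB1.ProjSpace n R)) :=
  Sga67.SerreVB.nonempty_twist_zero n R

/-- `O(m) ≅ O(1)^{⊗ m}`. -/
theorem O_nat (m : ℕ) :
    Nonempty (Twist.twistProjSpace n R (m : ℤ) ≅ CohB1.tensorPow (Twist.twistProjSpace n R 1) m) :=
  Ega3B.ProjFrame.nonempty_twistProjSpace_iso n R m

/-- The standard open `D_+(T_i)`. -/
noncomputable abbrev Dp (i : Fin (n + 1)) : (CohB1.ProjSpace n R).Opens :=
  Proj.basicOpen (CohB1.polyGrading n R) (MvPolynomial.X i : MvPolynomial (Fin (n + 1)) R)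

/-- `O(d)|_{D_+(T_i)} ≅ O`. -/
theorem O_restrict (d : ℤ) (i : Fin (n + 1)) :
    Nonempty ((Twist.twistProjSpace n R d).restrict (Dp n R i).ι ≅ Coh.structureModule ↑(Dp n R i)) := by
  obtain ⟨e⟩ := Groth.Agent.S1614.result (CohB1.polyGrading n R) 1 one_pos
    (MvPolynomial.X i : MvPolynomial (Fin (n + 1)) R) (MvPolynomial.isHomogeneous_X _ _) d
  have h : d * ((1 : ℕ) : ℤ) = d := by rw [Nat.cast_one, mul_one]
  rw [h] at e
  exact ⟨e⟩

/-- `M(d)(e) ≅ M(d + e)`. -/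
theorem tw_tw (d e : ℤ) (M : (CohB1.ProjSpace n R).Modules) :
    Nonempty (CohB1.tensorMod (CohB1.tensorMod M (Twist.twistProjSpace n R d)) (Twist.twistProjSpace n R e) ≅
      CohB1.tensorMod M (Twist.twistProjSpace n R (d + e))) :=
  Sga67.SerreVB.nonempty_tw_tw n R d e M

/-- `M(0) ≅ M`. -/
theorem tw_zero (M : (CohB1.ProjSpace n R).Modules) :
    Nonempty (CohB1.tensorMod M (Twist.twistProjSpace n R 0) ≅ M) :=
  Sga67.SerreVB.nonempty_tw_zero n R M

/-- `M ⊗ O(1) ⊗ ... ⊗ O(1) ≅ M(m)` (`m` factors). -/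
theorem it_iso (m : ℕ) (M : (CohB1.ProjSpace n R).Modules) :
    Nonempty (it (Twist.twistProjSpace n R 1) M m ≅ CohB1.tensorMod M (Twist.twistProjSpace n R (m : ℤ))) := by
  induction m with
  | zero =>
    obtain ⟨e⟩ := tw_zero n R M
    exact ⟨e.symm⟩
  | succ m ih =>
    obtain ⟨e⟩ := ih
    obtain ⟨e'⟩ := tw_tw n R (m : ℤ) 1 M
    exact ⟨(tw n R 1).mapIso e ≪≫ e' ≪≫ eqToIso (by rw [Nat.cast_succ])⟩

theorem isCoh_tw {M : (CohB1.ProjSpace n R).Modules} (hM : Coh.IsCoh M) (d : ℤ) :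
    Coh.IsCoh (CohB1.tensorMod M (Twist.twistProjSpace n R d)) :=
  Sga67.SerreVB.isCoh_tw n R hM d

theorem isQCoh_tw {M : (CohB1.ProjSpace n R).Modules} (hM : Coh.IsQCoh M) (d : ℤ) :
    Coh.IsQCoh (CohB1.tensorMod M (Twist.twistProjSpace n R d)) :=
  Ega2.TensGen.isQCoh_tensor hM (isInvertible_O n R d)

/-- Twisting is exact. -/
theorem shortExact_tw (d : ℤ) {S : ShortComplex (CohB1.ProjSpace n R).Modules} (hS : S.ShortExact) :
    (S.map (tw n R d)).ShortExact :=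
  CohqB.SerTw.shortExact_tw (isInvertible_O n R d) hS

/-- Invariance of vanishing of cohomology under isomorphisms. -/
theorem HH_congr {X : Scheme.{u}} {M N : X.Modules} (e : M ≅ N) (q : ℕ) (h : Subsingleton (Coh.HH X M q)) :
    Subsingleton (Coh.HH X N q) :=
  (VarietyA.EulerLES.equivΓ e.symm q).toEquiv.subsingleton

/-- `H^q(S₃) = 0` if `H^q(S₂) = 0 = H^{q+1}(S₁)`. -/
theorem subsingleton_right {X : Scheme.{u}} {S : ShortComplex X.Modules} (hS : S.ShortExact) (q : ℕ)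
    (h2 : Subsingleton (Coh.HH X S.X₂ q)) (h1 : Subsingleton (Coh.HH X S.X₁ (q + 1))) :
    Subsingleton (Coh.HH X S.X₃ q) := by
  have key : ∀ x : Coh.HH X S.X₃ q, x = 0 := fun x => by
    obtain ⟨y, rfl⟩ := (VarietyA.EulerLES.exact₃ S hS q (q + 1) rfl x).1 (Subsingleton.elim _ _)
    rw [Subsingleton.elim y 0, map_zero]
  exact ⟨fun a b => (key a).trans (key b).symm⟩

/-- `H^q(P^n, M) = 0` for `q > n`, `M` quasi-coherent. -/
theorem vanish_gt {M : (CohB1.ProjSpace n R).Modules} (hM : Coh.IsQCoh M) (q : ℕ) (hq : n < q) :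
    Subsingleton (Coh.HH (CohB1.ProjSpace n R) M q) :=
  Groth.Agent.S0022.result n R M q hq

/-- `O(d)^N` is finite locally free. -/
theorem isFinLocFree_sumO (N : ℕ) (d : ℤ) : FlatMod.IsFinLocFree (sumO n R N d) := by
  obtain ⟨e⟩ := Sga67.SerreVB.nonempty_freeMod_iso n R N
  obtain ⟨e'⟩ := Sga67.SerreVB.nonempty_tw_sumO n R N 0 d
  rw [zero_add] at e'
  exact Dcoh.FinLocFree.isFinLocFree_of_iso ((tw n R d).mapIso e ≪≫ e')
    (Sga67.SerreVB.isFinLocFree_tw n R (Dcoh.FinLocFree.isFinLocFree_freeMod _ N) d)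

/-- `O(d)^N` is coherent. -/
theorem isCoh_sumO (N : ℕ) (d : ℤ) : Coh.IsCoh (sumO n R N d) :=
  PerfA.CohSerre.isCoh_of_isFinLocFree (isFinLocFree_sumO n R N d)

/-- `H^q(P^n, O(d)^N) = 0` for `q ≥ 1`, `d ≥ 0`. -/
theorem subsingleton_sumO (N : ℕ) (d : ℤ) (hd : 0 ≤ d) (q : ℕ) (hq : 1 ≤ q) :
    Subsingleton (Coh.HH (CohB1.ProjSpace n R) (sumO n R N d) q) :=
  CohqA.HBiprod.subsingleton_HH_biproduct _ q fun _ =>
    S0844.result R n d q (by omega) (by omega)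

/-- `M(m)` is globally generated for all large `m` (any ring `R`). -/
theorem exists_globGen {M : (CohB1.ProjSpace n R).Modules} (hM : Coh.IsCoh M) :
    ∃ m₀ : ℕ, ∀ m : ℤ, (m₀ : ℤ) ≤ m →
      Curv2.IsGloballyGenerated (CohB1.tensorMod M (Twist.twistProjSpace n R m)) :=
  Sga67.SerreVB.exists_globGen n R hM

/-- `M(m)` is a quotient of `O^N` for all large `m` (any ring `R`). -/
theorem exists_epi_free {M : (CohB1.ProjSpace n R).Modules} (hM : Coh.IsCoh M) :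
    ∃ m₀ : ℕ, ∀ m : ℤ, (m₀ : ℤ) ≤ m → ∃ (N : ℕ) (p : FlatMod.freeMod (CohB1.ProjSpace n R) N ⟶
      CohB1.tensorMod M (Twist.twistProjSpace n R m)), Epi p :=
  Sga67.SerreVB.exists_epi_twist n R hM

/-- `M` is a quotient of `O(-m)^N` for all large `m` (any ring `R`). -/
theorem exists_epi_sumO {M : (CohB1.ProjSpace n R).Modules} (hM : Coh.IsCoh M) :
    ∃ m₀ : ℕ, ∀ m : ℤ, (m₀ : ℤ) ≤ m → ∃ (N : ℕ) (p : sumO n R N (-m) ⟶ M), Epi p :=
  Sga67.SerreVB.exists_epi_sum n R hM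

end AnyRing

section Noetherian

variable (n : ℕ) (R : Type u) [CommRing R] [IsNoetherianRing R]

theorem isNoetherian_projSpace : IsNoetherian (CohB1.ProjSpace n R) := by
  have : IsProper (CohB1.ProjSpace.toSpec n R) := Ega3B.ProjProper.isProper_toSpec n R
  have : IsNoetherianRing (CommRingCat.of R) := ‹_›
  have h2 : IsLocallyNoetherian (CohB1.ProjSpace n R) :=
    LocallyOfFiniteType.isLocallyNoetherian (CohB1.ProjSpace.toSpec n R)
  have h3 : CompactSpace (CohB1.ProjSpace n R) :=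
    QuasiCompact.compactSpace_of_compactSpace (CohB1.ProjSpace.toSpec n R)
  exact { }

/-- `0 → K → O(-m)^N → M → 0` with `K` coherent, for all large `m`. -/
theorem exists_ses {M : (CohB1.ProjSpace n R).Modules} (hM : Coh.IsCoh M) :
    ∃ m₀ : ℕ, ∀ m : ℤ, (m₀ : ℤ) ≤ m →
      ∃ (N : ℕ) (K : (CohB1.ProjSpace n R).Modules) (i : K ⟶ sumO n R N (-m)) (p : sumO n R N (-m) ⟶ M)
        (w : i ≫ p = 0), Coh.IsCoh K ∧ (ShortComplex.mk i p w).ShortExact := by
  have := isNoetherian_projSpace n R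
  obtain ⟨m₀, h⟩ := exists_epi_sumO n R hM
  refine ⟨m₀, fun m hm => ?_⟩
  obtain ⟨N, p, hp⟩ := h m hm
  exact ⟨N, kernel p, kernel.ι p, p, kernel.condition p,
    Sga67.CohBasic.isCoh_kernel p (isCoh_sumO n R N (-m)) hM.1,
    { exact := ShortComplex.exact_kernel p }⟩

/-- Descending induction on the degree. -/
theorem serre_aux (k : ℕ) : ∀ (q : ℕ), 1 ≤ q → n + 1 ≤ q + k →
    ∀ M : (CohB1.ProjSpace n R).Modules, Coh.IsCoh M → ∃ m₀ : ℕ, ∀ m : ℤ, (m₀ : ℤ) ≤ m →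
      ∀ i, q ≤ i → Subsingleton
        (Coh.HH (CohB1.ProjSpace n R) (CohB1.tensorMod M (Twist.twistProjSpace n R m)) i) := by
  induction k with
  | zero =>
    intro q _ hqk M hM
    exact ⟨0, fun m _ i hi => vanish_gt n R (isQCoh_tw n R hM.1 m) i (by omega)⟩
  | succ k ih =>
    intro q hq hqk M hM
    obtain ⟨a, ha⟩ := exists_ses n R hM
    obtain ⟨N, K, i, p, w, hK, hS⟩ := ha a le_rfl
    obtain ⟨n₁, h₁⟩ := ih (q + 1) (by omega) (by omega) K hK
    obtain ⟨n₂, h₂⟩ := ih (q + 1) (by omega) (by omega) M hM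
    refine ⟨max a (max n₁ n₂), fun m hm j hj => ?_⟩
    push_cast at hm
    rcases Nat.eq_or_lt_of_le hj with rfl | hlt
    · refine subsingleton_right (shortExact_tw n R m hS) q ?_ (h₁ m (by omega) (q + 1) le_rfl)
      obtain ⟨e⟩ := Sga67.SerreVB.nonempty_tw_sumO n R N (-(a : ℤ)) m
      exact HH_congr e.symm q (subsingleton_sumO n R N _ (by omega) q hq)
    · exact h₂ m (by omega) j hlt

/-- Serre vanishing, all degrees at once. -/
theorem serre {M : (CohB1.ProjSpace n R).Modules} (hM : Coh.IsCoh M) :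
    ∃ m₀ : ℕ, ∀ m : ℤ, (m₀ : ℤ) ≤ m → ∀ q : ℕ, 1 ≤ q →
      Subsingleton (Coh.HH (CohB1.ProjSpace n R) (CohB1.tensorMod M (Twist.twistProjSpace n R m)) q) :=
  serre_aux n R n 1 le_rfl (by omega) M hM

/-- Serre vanishing and global generation together. -/
theorem serre_globGen {M : (CohB1.ProjSpace n R).Modules} (hM : Coh.IsCoh M) :
    ∃ m₀ : ℕ, ∀ m : ℤ, (m₀ : ℤ) ≤ m →
      (∀ q : ℕ, 1 ≤ q → Subsingleton
        (Coh.HH (CohB1.ProjSpace n R) (CohB1.tensorMod M (Twist.twistProjSpace n R m)) q)) ∧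
      Curv2.IsGloballyGenerated (CohB1.tensorMod M (Twist.twistProjSpace n R m)) ∧
      (∃ (N : ℕ) (p : FlatMod.freeMod (CohB1.ProjSpace n R) N ⟶
        CohB1.tensorMod M (Twist.twistProjSpace n R m)), Epi p) ∧
      ∃ (N : ℕ) (p : sumO n R N (-m) ⟶ M), Epi p := by
  obtain ⟨m₁, h₁⟩ := serre n R hM
  obtain ⟨m₂, h₂⟩ := exists_globGen n R hM
  obtain ⟨m₃, h₃⟩ := exists_epi_free n R hM
  obtain ⟨m₄, h₄⟩ := exists_epi_sumO n R hM
  refine ⟨max (max m₁ m₂) (max m₃ m₄), fun m hm => ?_⟩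
  push_cast at hm
  exact ⟨h₁ m (by omega), h₂ m (by omega), h₃ m (by omega), h₄ m (by omega)⟩

/-- The same for the iterated tensor product with `O(1)`. -/
theorem it_serre {M : (CohB1.ProjSpace n R).Modules} (hM : Coh.IsCoh M) :
    ∃ m₀ : ℕ, ∀ m : ℕ, m₀ ≤ m →
      (∀ q : ℕ, 1 ≤ q → Subsingleton
        (Coh.HH (CohB1.ProjSpace n R) (it (Twist.twistProjSpace n R 1) M m) q)) ∧
      Curv2.IsGloballyGenerated (it (Twist.twistProjSpace n R 1) M m) ∧
      ∃ (N : ℕ) (p : FlatMod.freeMod (CohB1.ProjSpace n R) N ⟶ it (Twist.twistProjSpace n R 1) M m),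
        Epi p := by
  obtain ⟨m₀, h⟩ := serre_globGen n R hM
  refine ⟨m₀, fun m hm => ?_⟩
  obtain ⟨h1, h2, ⟨N, p, hp⟩, -⟩ := h (m : ℤ) (by exact_mod_cast hm)
  obtain ⟨e⟩ := it_iso n R m M
  exact ⟨fun q hq => HH_congr e.symm q (h1 q hq), Ega2.GlobGenCrit.isGloballyGenerated_of_iso e.symm h2,
    N, p ≫ e.inv, epi_comp p e.inv⟩

/-- `O(-m')^{N'} → O(-m)^N → M → 0` exact, for all large `m` and (then) all large `m'`. -/
theorem exists_presentation {M : (CohB1.ProjSpace n R).Modules} (hM : Coh.IsCoh M) :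
    ∃ m₀ : ℕ, ∀ m : ℤ, (m₀ : ℤ) ≤ m → ∃ N : ℕ, ∃ m₁ : ℕ, ∀ m' : ℤ, (m₁ : ℤ) ≤ m' →
      ∃ (N' : ℕ) (f : sumO n R N' (-m') ⟶ sumO n R N (-m)) (p : sumO n R N (-m) ⟶ M)
        (w : f ≫ p = 0), Epi p ∧ (ShortComplex.mk f p w).Exact ∧ Nonempty (cokernel f ≅ M) := by
  have := isNoetherian_projSpace n R
  obtain ⟨m₀, h⟩ := exists_epi_sumO n R hM
  refine ⟨m₀, fun m hm => ?_⟩
  obtain ⟨N, p, hp⟩ := h m hm
  have hK : Coh.IsCoh (kernel p) := Sga67.CohBasic.isCoh_kernel p (isCoh_sumO n R N (-m)) hM.1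
  obtain ⟨m₁, h'⟩ := exists_epi_sumO n R hK
  refine ⟨N, m₁, fun m' hm' => ?_⟩
  obtain ⟨N', g, hg⟩ := h' m' hm'
  have w : (g ≫ kernel.ι p) ≫ p = 0 := by rw [Category.assoc, kernel.condition, comp_zero]
  have hex : (ShortComplex.mk (g ≫ kernel.ι p) p w).Exact := by
    have h0 := ShortComplex.exact_kernel p
    exact (ShortComplex.exact_iff_of_epi_of_isIso_of_mono
      (S₁ := ShortComplex.mk (g ≫ kernel.ι p) p w) (S₂ := ShortComplex.mk (kernel.ι p) p (kernel.condition p))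
      { τ₁ := g, τ₂ := 𝟙 _, τ₃ := 𝟙 _ }).2 h0
  have hc : IsColimit (CokernelCofork.ofπ p w) := hex.gIsCokernel
  exact ⟨N', g ≫ kernel.ι p, p, w, hp, hex,
    ⟨(cokernelIsCokernel (g ≫ kernel.ι p)).coconePointUniqueUpToIso hc⟩⟩

end Noetherian

end Groth.Agent.Gaga.H883.Serre
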