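import Groth.Agent.S0055
import Groth.Agent.CohqB.RelVan
import Groth.Agent.CohqA.HOpen
import Groth.Agent.Ega3B.SerreTwist
import Groth.Agent.Sga67.SerreVB
import Groth.Agent.Sga67.PushLocal
import Groth.Prelude.Def_LCI2

/-!
# Serre's theorem relative to a Noetherian base

`X` closed in `P^r_Y`, `f = i ≫ toBase r Y`, `L = lineOne r i = i^* O(1)`, `M` coherent on `X`,
`Y` Noetherian: for all large `m`, all `q ≥ 1` and ALL affine opens `V` of `Y`,
`H^q(f⁻¹ V, M(m)) = 0` (in the forms `Coh.HHon` and `CohTop.HU`), and `f^* f_* M(m) ⟶ M(m)` is epi.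

* `subsingleton_HHon_of_isZero`, `subsingleton_HU_of_isZero`: `R^q f_* M = 0` implies
  `H^q(f⁻¹ V, M) = 0` for every affine open `V`; `subsingleton_HHon_of_cover`: enough to know it for
  an affine cover.
* `exists_vanishing`, `exists_epi_counit`, `exists_serre`: `f` proper, `L` relatively ample.
* `isRelAmple_lineOne`, `exists_serre_pow`, `exists_serre_twist`: closed subschemes of `P^r_Y`.
-/

set_option autoImplicit false

universe u

open CategoryTheory CategoryTheory.Limits AlgebraicGeometry Opposite TopologicalSpace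

namespace Groth.Agent.Gaga.H883.SerreRel

open Groth.Agent.Fdesc.LocGen

variable {X S : Scheme.{u}}

/-- `R^q f_* M = 0` implies `H^q(f⁻¹ V, M) = 0` for `V` affine. -/
theorem subsingleton_HHon_of_isZero (f : X ⟶ S) [QuasiCompact f] [QuasiSeparated f] (M : X.Modules)
    (hM : Coh.IsQCoh M) (q : ℕ) (h : IsZero ((Coh.RpushAb f q).obj (Coh.toAb M)))
    (V : S.Opens) (hV : IsAffineOpen V) : Subsingleton (Coh.HHon X M (f ⁻¹ᵁ V) q) := by
  have : IsAffine V := hV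
  have h1 : IsZero ((Coh.Rpush f q).obj M) := (Ega3B.RpushAbCmp.isZero_RpushAb_iff f M q).1 h
  have h2 : IsZero (((Coh.Rpush f q).obj M).restrict V.ι) :=
    (Scheme.Modules.restrictFunctor V.ι).map_isZero h1
  have h3 : IsZero ((Coh.Rpush (f ∣_ V) q).obj (M.restrict (f ⁻¹ᵁ V).ι)) :=
    h2.of_iso (CohqA.RpushLoc.rpushResOpen f V q M).symm
  have h4 := (Ega3B.RpushAbCmp.isZero_RpushAb_iff (f ∣_ V) (M.restrict (f ⁻¹ᵁ V).ι) q).2 h3
  have h5 : Coh.IsQCoh (M.restrict (f ⁻¹ᵁ V).ι) := PerfA.QCohSerre.isQCoh_restrict _ hM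
  obtain ⟨e⟩ := Groth.Agent.S0032.result (f ∣_ V) (M.restrict (f ⁻¹ᵁ V).ι) q
  have h6 : IsZero (((Coh.RpushAb (f ∣_ V) q).obj (Coh.toAb (M.restrict (f ⁻¹ᵁ V).ι))).obj.obj (op ⊤)) :=
    (((sheafToPresheaf _ _) ⋙ (evaluation _ _).obj (op ⊤)).map_isZero h4)
  have h7 := AddCommGrpCat.isZero_iff_subsingleton.1 h6
  exact e.toEquiv.subsingleton

theorem subsingleton_HU_of_isZero (f : X ⟶ S) [QuasiCompact f] [QuasiSeparated f] (M : X.Modules)
    (hM : Coh.IsQCoh M) (q : ℕ) (h : IsZero ((Coh.RpushAb f q).obj (Coh.toAb M)))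
    (V : S.Opens) (hV : IsAffineOpen V) :
    Subsingleton (CohTop.HU (X := X.toTopCat) (Coh.toAb M) q (f ⁻¹ᵁ V)) := by
  have := subsingleton_HHon_of_isZero f M hM q h V hV
  exact (CohqA.HOpen.HHonEquiv M (f ⁻¹ᵁ V) q).toEquiv.subsingleton

/-- `H^q(f⁻¹ V, M) = 0` for the affine opens `V` of a cover implies it for all affine opens. -/
theorem subsingleton_HHon_of_cover (f : X ⟶ S) [QuasiCompact f] [QuasiSeparated f] (M : X.Modules)
    (hM : Coh.IsQCoh M) (q : ℕ)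
    (h : ∀ x : S, ∃ V : S.Opens, x ∈ V ∧ IsAffineOpen V ∧ Subsingleton (Coh.HHon X M (f ⁻¹ᵁ V) q))
    (V : S.Opens) (hV : IsAffineOpen V) : Subsingleton (Coh.HHon X M (f ⁻¹ᵁ V) q) :=
  subsingleton_HHon_of_isZero f M hM q (CohqB.RelVan.isZero_RpushAb_of_cover f M hM q h) V hV

theorem isInvertible_of_isRelAmple {f : X ⟶ S} {L : X.Modules} (hL : RelAmple.IsRelAmple f L) :
    PicF.IsInvertible L := by
  rw [isInvertible_iff]
  intro x
  obtain ⟨V, hV, hxV, -⟩ := exists_isAffineOpen_mem_and_subset (X := S) (U := ⊤) (x := f x) trivial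
  obtain ⟨W, e, hW, he⟩ := (isInvertible_iff _).1 (hL.2 ⟨V, hV⟩).1 ⟨x, hxV⟩
  obtain ⟨m, rfl⟩ := (toRestrict (M := L) (f ⁻¹ᵁ V).ι (U := W)).surjective e
  exact ⟨(f ⁻¹ᵁ V).ι ''ᵁ W, m, ⟨⟨x, hxV⟩, hW, rfl⟩, (isGen_toRestrict_iff (f ⁻¹ᵁ V).ι m).1 he⟩

section Ample

variable (f : X ⟶ S) [IsProper f] [IsNoetherian S] {L : X.Modules} (hL : RelAmple.IsRelAmple f L)
  {M : X.Modules} (hM : Coh.IsCoh M)

include hL hM

/-- Relative Serre vanishing, for all affine opens of the base at once. -/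
theorem exists_vanishing : ∃ n₀ : ℕ, ∀ n : ℕ, n₀ ≤ n → ∀ q : ℕ, 1 ≤ q → ∀ V : S.Opens, IsAffineOpen V →
    Subsingleton (Coh.HHon X (CohB1.tensorMod M (CohB1.tensorPow L n)) (f ⁻¹ᵁ V) q) := by
  have hinv := isInvertible_of_isRelAmple hL
  obtain ⟨n₀, h⟩ := Groth.Agent.S0055.result f L hinv (fun W hW => hL.2 ⟨W, hW⟩) M hM
  have hq : ∀ n : ℕ, Coh.IsQCoh (CohB1.tensorMod M (CohB1.tensorPow L n)) := fun n =>
    (CohqB.SerTw.isCoh_tensorMod hM (isInvertible_tensorPow hinv n)).1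
  exact ⟨n₀, fun n hn q hq' V hV =>
    subsingleton_HHon_of_isZero f _ (hq n) q (h n hn q hq') V hV⟩

omit [AlgebraicGeometry.IsNoetherian S] in
/-- Global generation over an affine open of the base. -/
theorem exists_globGen_over (W : S.Opens) (hW : IsAffineOpen W) : ∃ n₀ : ℕ, ∀ n : ℕ, n₀ ≤ n →
    Curv2.IsGloballyGenerated ((CohB1.tensorMod M (CohB1.tensorPow L n)).restrict (f ⁻¹ᵁ W).ι) := by
  have : IsAffine W := hW
  have : QuasiSeparatedSpace (f ⁻¹ᵁ W) := quasiSeparatedSpace_of_quasiSeparated (f ∣_ W)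
  obtain ⟨n₀, h⟩ := Ega2.AmpleGlobGen.exists_globGen (hL.2 ⟨W, hW⟩)
    (Groth.Agent.CohqB.LocalQC.isCoh_restrict (f ⁻¹ᵁ W).ι hM)
  refine ⟨n₀, fun n hn => ?_⟩
  obtain ⟨e⟩ := Groth.Agent.Ega3B.TensRestrict.restrictPowIso (f ⁻¹ᵁ W).ι L n
  obtain ⟨e'⟩ := Groth.Agent.Ega2.TensHom.tensCongr (Iso.refl (M.restrict (f ⁻¹ᵁ W).ι)) e
  exact Ega2.GlobGenCrit.isGloballyGenerated_of_iso
    (Groth.Agent.Ega3B.TensRestrict.restrictIso (f ⁻¹ᵁ W).ι M (CohB1.tensorPow L n) ≪≫ e').symm (h n hn)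

/-- `f^* f_* (M ⊗ L^n) ⟶ M ⊗ L^n` is an epimorphism for large `n`. -/
theorem exists_epi_counit : ∃ n₀ : ℕ, ∀ n : ℕ, n₀ ≤ n →
    Epi ((Scheme.Modules.pullbackPushforwardAdjunction f).counit.app
      (CohB1.tensorMod M (CohB1.tensorPow L n))) := by
  have key : ∀ W : S.affineOpens, ∃ n₀ : ℕ, ∀ n : ℕ, n₀ ≤ n → Curv2.IsGloballyGenerated
      ((CohB1.tensorMod M (CohB1.tensorPow L n)).restrict (f ⁻¹ᵁ W.1).ι) :=
    fun W => exists_globGen_over f hL hM W.1 W.2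
  choose N hN using key
  obtain ⟨t, ht⟩ := CompactSpace.elim_nhds_subcover (X := S)
    (fun x => ((exists_isAffineOpen_mem_and_subset (x := x) (U := ⊤) trivial).choose : Set S))
    (fun x => (exists_isAffineOpen_mem_and_subset (x := x) (U := ⊤) trivial).choose.isOpen.mem_nhds
      (exists_isAffineOpen_mem_and_subset (x := x) (U := ⊤) trivial).choose_spec.2.1)
  let W : S → S.affineOpens := fun x =>
    ⟨(exists_isAffineOpen_mem_and_subset (x := x) (U := ⊤) trivial).choose,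
      (exists_isAffineOpen_mem_and_subset (x := x) (U := ⊤) trivial).choose_spec.1⟩
  refine ⟨t.sup fun x => N (W x), fun n hn => ?_⟩
  refine Sga67.PushLocal.epi_counit (ι := t) (V := fun x => ((W x.1).1 : Scheme.{u}))
    (P := fun x => ((f ⁻¹ᵁ (W x.1).1 : X.Opens) : Scheme.{u})) (h := fun x => (W x.1).1.ι)
    (j := fun x => (f ⁻¹ᵁ (W x.1).1).ι) (π := fun x => f ∣_ (W x.1).1) (fun s => ?_)
    (fun x => (isPullback_morphismRestrict f (W x.1).1).flip) _ fun x => ?_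
  · have hx : s ∈ ⋃ y ∈ t, ((W y).1 : Set S) := by
      rw [show (⋃ y ∈ t, ((W y).1 : Set S)) = ⊤ from ht]
      trivial
    simp only [Set.mem_iUnion] at hx
    obtain ⟨y, hy, hxy⟩ := hx
    exact ⟨⟨y, hy⟩, by rw [Scheme.Opens.range_ι]; exact hxy⟩
  · exact Sga67.SerreVB.epi_counit (f ∣_ (W x.1).1)
      (hN (W x.1) n ((Finset.le_sup (f := fun x => N (W x)) x.2).trans hn))

/-- Relative Serre theorem. -/
theorem exists_serre : ∃ n₀ : ℕ, ∀ n : ℕ, n₀ ≤ n →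
    (∀ q : ℕ, 1 ≤ q → ∀ V : S.Opens, IsAffineOpen V →
      Subsingleton (Coh.HHon X (CohB1.tensorMod M (CohB1.tensorPow L n)) (f ⁻¹ᵁ V) q)) ∧
    (∀ q : ℕ, 1 ≤ q → ∀ V : S.Opens, IsAffineOpen V →
      Subsingleton (CohTop.HU (X := X.toTopCat)
        (Coh.toAb (CohB1.tensorMod M (CohB1.tensorPow L n))) q (f ⁻¹ᵁ V))) ∧
    Epi ((Scheme.Modules.pullbackPushforwardAdjunction f).counit.app
      (CohB1.tensorMod M (CohB1.tensorPow L n))) := by
  obtain ⟨n₁, h₁⟩ := exists_vanishing f hL hM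
  obtain ⟨n₂, h₂⟩ := exists_epi_counit f hL hM
  refine ⟨max n₁ n₂, fun n hn => ⟨h₁ n ((le_max_left _ _).trans hn), fun q hq V hV => ?_,
    h₂ n ((le_max_right _ _).trans hn)⟩⟩
  have := h₁ n ((le_max_left _ _).trans hn) q hq V hV
  exact (CohqA.HOpen.HHonEquiv _ (f ⁻¹ᵁ V) q).toEquiv.subsingleton

end Ample

section Proj

open Groth.Agent.Ega3B.ProjFrame (lineOne)

variable (r : ℕ) {Y : Scheme.{u}} (i : X ⟶ CohB1.ProjSpaceOver r Y) [IsClosedImmersion i]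

/-- `O(1)` is ample relative to the base, on a closed subscheme of `P^r_Y`. -/
theorem isRelAmple_lineOne : RelAmple.IsRelAmple (i ≫ CohB1.ProjSpaceOver.toBase r Y) (lineOne r i) := by
  have := Ega3B.ProjProper.isProper_toBase r Y
  refine ⟨inferInstance, fun V => ?_⟩
  have : IsAffine (V.1 : Scheme.{u}) := V.2
  have h := Ega3B.SerreTwist.isAmple_baseChange r i V.1.ι
    (isPullback_morphismRestrict (i ≫ CohB1.ProjSpaceOver.toBase r Y) V.1).flip
  exact Ega2.Weight.isAmple_of_iso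
    ((Scheme.Modules.restrictFunctorIsoPullback _).app _).symm h

theorem isProper_comp : IsProper (i ≫ CohB1.ProjSpaceOver.toBase r Y) := by
  have := Ega3B.ProjProper.isProper_toBase r Y
  infer_instance

variable [IsNoetherian Y] {M : X.Modules} (hM : Coh.IsCoh M)

include hM

/-- `X` closed in `P^r_Y`, tensor powers of `i^* O(1)`. -/
theorem exists_serre_pow : ∃ n₀ : ℕ, ∀ n : ℕ, n₀ ≤ n →
    (∀ q : ℕ, 1 ≤ q → ∀ V : Y.Opens, IsAffineOpen V →
      Subsingleton (Coh.HHon X (CohB1.tensorMod M (CohB1.tensorPow (lineOne r i) n))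
        ((i ≫ CohB1.ProjSpaceOver.toBase r Y) ⁻¹ᵁ V) q)) ∧
    (∀ q : ℕ, 1 ≤ q → ∀ V : Y.Opens, IsAffineOpen V →
      Subsingleton (CohTop.HU (X := X.toTopCat)
        (Coh.toAb (CohB1.tensorMod M (CohB1.tensorPow (lineOne r i) n))) q
        ((i ≫ CohB1.ProjSpaceOver.toBase r Y) ⁻¹ᵁ V))) ∧
    Epi ((Scheme.Modules.pullbackPushforwardAdjunction (i ≫ CohB1.ProjSpaceOver.toBase r Y)).counit.app
      (CohB1.tensorMod M (CohB1.tensorPow (lineOne r i) n))) := by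
  have := isProper_comp r i
  exact exists_serre _ (isRelAmple_lineOne r i) hM

/-- `X` closed in `P^r_Y`, twists by `i^* O(n)`. -/
theorem exists_serre_twist : ∃ n₀ : ℕ, ∀ n : ℤ, (n₀ : ℤ) ≤ n →
    (∀ q : ℕ, 1 ≤ q → ∀ V : Y.Opens, IsAffineOpen V →
      Subsingleton (Coh.HHon X (CohB1.tensorMod M ((Scheme.Modules.pullback i).obj (Twist.twistOver r Y n)))
        ((i ≫ CohB1.ProjSpaceOver.toBase r Y) ⁻¹ᵁ V) q)) ∧
    (∀ q : ℕ, 1 ≤ q → ∀ V : Y.Opens, IsAffineOpen V →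
      Subsingleton (CohTop.HU (X := X.toTopCat)
        (Coh.toAb (CohB1.tensorMod M ((Scheme.Modules.pullback i).obj (Twist.twistOver r Y n)))) q
        ((i ≫ CohB1.ProjSpaceOver.toBase r Y) ⁻¹ᵁ V))) ∧
    Epi ((Scheme.Modules.pullbackPushforwardAdjunction (i ≫ CohB1.ProjSpaceOver.toBase r Y)).counit.app
      (CohB1.tensorMod M ((Scheme.Modules.pullback i).obj (Twist.twistOver r Y n)))) := by
  obtain ⟨n₀, h⟩ := exists_serre_pow r i hM
  refine ⟨n₀, fun n hn => ?_⟩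
  obtain ⟨m, rfl⟩ := Int.eq_ofNat_of_zero_le ((Int.natCast_nonneg n₀).trans hn)
  obtain ⟨h1, -, h3⟩ := h m (by exact_mod_cast hn)
  obtain ⟨e⟩ := Ega3B.ProjFrame.nonempty_pullback_twistOver_iso r i m
  obtain ⟨e'⟩ := Groth.Agent.Ega2.TensHom.tensCongr (Iso.refl M) e
  have key : ∀ q : ℕ, 1 ≤ q → ∀ V : Y.Opens, IsAffineOpen V →
      Subsingleton (Coh.HHon X (CohB1.tensorMod M ((Scheme.Modules.pullback i).obj
        (Twist.twistOver r Y (m : ℤ)))) ((i ≫ CohB1.ProjSpaceOver.toBase r Y) ⁻¹ᵁ V) q) :=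
    fun q hq V hV => Groth.Agent.S0055.subsingleton_of_iso
      ((Scheme.Modules.restrictFunctor _).mapIso e'.symm) q (h1 q hq V hV)
  refine ⟨key, fun q hq V hV => ?_, ?_⟩
  · have := key q hq V hV
    exact (CohqA.HOpen.HHonEquiv _ _ q).toEquiv.subsingleton
  · have h4 := (Scheme.Modules.pullbackPushforwardAdjunction
      (i ≫ CohB1.ProjSpaceOver.toBase r Y)).counit.naturality e'.inv
    have h5 : Epi (((Scheme.Modules.pullbackPushforwardAdjunction
        (i ≫ CohB1.ProjSpaceOver.toBase r Y)).counit.app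
          (CohB1.tensorMod M (CohB1.tensorPow (lineOne r i) m))) ≫ e'.inv) := epi_comp _ _
    exact epi_of_epi_fac h4.symm.symm

end Proj

end Groth.Agent.Gaga.H883.SerreRel
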